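import Mathlib.AlgebraicGeometry.Morphisms.UniversallyOpen
import Mathlib.AlgebraicGeometry.AffineSpace
import Mathlib.AlgebraicGeometry.Pullbacks
import Mathlib.RingTheory.TensorProduct.MvPolynomial

/-! Criteria for universal openness. -/

set_option autoImplicit false
universe u w

namespace Groth.Agent.UnivOpenCrit

open CategoryTheory AlgebraicGeometry Limits TensorProduct PrimeSpectrum

variable {A B : Type u} [CommRing A] [CommRing B] [Algebra A B]

theorem exists_point {σ : Type w} [Fintype σ] (b : σ → B) {A' : Type u} [CommRing A'] [Algebra A A'] (a : σ → A')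
    {L : Type*} [Field L] (α : A' →+* L) (β : MvPolynomial σ B →+* L)
    (hαβ : ∀ x : MvPolynomial σ A, α (MvPolynomial.aeval a x) = β (MvPolynomial.map (algebraMap A B) x))
    (hne : β (∑ i, MvPolynomial.X i * MvPolynomial.C (b i)) ≠ 0) :
    ∃ R : PrimeSpectrum (A' ⊗[A] B), R ∈ PrimeSpectrum.basicOpen (∑ i, a i ⊗ₜ[A] b i) ∧
      (PrimeSpectrum.comap (algebraMap A' (A' ⊗[A] B)) R).asIdeal = RingHom.ker α := by
  letI : Algebra A L := (α.comp (algebraMap A A')).toAlgebra
  let fA : A' →ₐ[A] L := { α with commutes' := fun c => rfl }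
  let fB : B →ₐ[A] L := { β.comp MvPolynomial.C with
    commutes' := fun c => by
      show β (MvPolynomial.C (algebraMap A B c)) = α (algebraMap A A' c)
      rw [← MvPolynomial.map_C (σ := σ), ← hαβ]
      simp }
  let g : A' ⊗[A] B →ₐ[A] L := Algebra.TensorProduct.lift fA fB fun _ _ => Commute.all _ _
  have hg : ∀ x y, g (x ⊗ₜ y) = α x * β (MvPolynomial.C y) := fun x y => Algebra.TensorProduct.lift_tmul _ _ _ _ _
  refine ⟨⟨RingHom.ker g.toRingHom, RingHom.ker_isPrime _⟩, ?_, Ideal.ext fun x => ?_⟩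
  · show g (∑ i, a i ⊗ₜ[A] b i) ≠ 0
    have e : g (∑ i, a i ⊗ₜ[A] b i) = β (∑ i, MvPolynomial.X i * MvPolynomial.C (b i)) := by
      simp only [map_sum, map_mul, hg]
      refine Finset.sum_congr rfl fun i _ => ?_
      congr 1
      simpa using hαβ (MvPolynomial.X i)
    rwa [e]
  · show g (x ⊗ₜ 1) = 0 ↔ α x = 0
    rw [hg, map_one, map_one, mul_one]

theorem image_isOpen_of_linearForm {σ : Type w} [Fintype σ] (b : σ → B)
    (h : IsOpen (PrimeSpectrum.comap (MvPolynomial.map (σ := σ) (algebraMap A B)) ''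
        (PrimeSpectrum.basicOpen (∑ i, MvPolynomial.X i * MvPolynomial.C (b i)) : Set (PrimeSpectrum (MvPolynomial σ B)))))
    {A' : Type u} [CommRing A'] [Algebra A A'] (a : σ → A') :
    IsOpen (PrimeSpectrum.comap (algebraMap A' (A' ⊗[A] B)) ''
      (PrimeSpectrum.basicOpen (∑ i, a i ⊗ₜ[A] b i) : Set (PrimeSpectrum (A' ⊗[A] B)))) := by
  let ev : MvPolynomial σ A →+* A' := (MvPolynomial.aeval a : MvPolynomial σ A →ₐ[A] A').toRingHom
  let ψ : MvPolynomial σ B →+* A' ⊗[A] B :=
    MvPolynomial.eval₂Hom (Algebra.TensorProduct.includeRight : B →ₐ[A] A' ⊗[A] B).toRingHom fun i => a i ⊗ₜ 1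
  have hψ : ψ.comp (MvPolynomial.map (algebraMap A B)) = (algebraMap A' (A' ⊗[A] B)).comp ev := by
    refine MvPolynomial.ringHom_ext (fun c => ?_) fun i => ?_
    · simp [ψ, ev, ← IsScalarTower.algebraMap_apply]
    · simp [ψ, ev]
  have hψh : ψ (∑ i, MvPolynomial.X i * MvPolynomial.C (b i)) = ∑ i, a i ⊗ₜ[A] b i := by
    simp [ψ, Algebra.TensorProduct.tmul_mul_tmul]
  convert h.preimage (PrimeSpectrum.continuous_comap ev) using 1
  refine Set.Subset.antisymm ?_ ?_
  · rintro _ ⟨P, hP, rfl⟩
    refine ⟨PrimeSpectrum.comap ψ P, ?_, ?_⟩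
    · show ψ _ ∉ P.asIdeal
      rw [hψh]; exact hP
    · rw [← PrimeSpectrum.comap_comp_apply, hψ, PrimeSpectrum.comap_comp_apply]
  · rintro q' ⟨P, hP, hPq⟩
    -- a common field over the two points
    letI := ((algebraMap A' q'.asIdeal.ResidueField).comp ev).toAlgebra
    letI := ((algebraMap (MvPolynomial σ B) P.asIdeal.ResidueField).comp (MvPolynomial.map (algebraMap A B))).toAlgebra
    have hk : RingHom.ker (algebraMap (MvPolynomial σ A) q'.asIdeal.ResidueField) =
        RingHom.ker (algebraMap (MvPolynomial σ A) P.asIdeal.ResidueField) := by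
      ext x
      rw [RingHom.mem_ker, RingHom.mem_ker, RingHom.algebraMap_toAlgebra, RingHom.algebraMap_toAlgebra,
        RingHom.comp_apply, RingHom.comp_apply, Ideal.algebraMap_residueField_eq_zero,
        Ideal.algebraMap_residueField_eq_zero]
      have := congrArg (fun Q => x ∈ PrimeSpectrum.asIdeal Q) hPq
      simp only [PrimeSpectrum.comap_asIdeal, Ideal.mem_comap] at this
      exact Iff.of_eq this.symm
    let 𝔯 : Ideal (MvPolynomial σ A) := RingHom.ker (algebraMap (MvPolynomial σ A) q'.asIdeal.ResidueField)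
    haveI : 𝔯.IsPrime := RingHom.ker_isPrime _
    let e₁ := Ideal.ResidueField.liftₐ 𝔯 (Algebra.ofId (MvPolynomial σ A) q'.asIdeal.ResidueField) le_rfl (fun x hx => by
      exact isUnit_iff_ne_zero.2 hx)
    let e₂ := Ideal.ResidueField.liftₐ 𝔯 (Algebra.ofId (MvPolynomial σ A) P.asIdeal.ResidueField) hk.le (fun x hx => by
      refine isUnit_iff_ne_zero.2 fun h0 => hx ?_
      show x ∈ RingHom.ker _
      rw [hk]; exact h0)
    letI := e₁.toRingHom.toAlgebra
    letI := e₂.toRingHom.toAlgebra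
    obtain ⟨M, hM⟩ := Ideal.exists_maximal (q'.asIdeal.ResidueField ⊗[𝔯.ResidueField] P.asIdeal.ResidueField)
    let L := (q'.asIdeal.ResidueField ⊗[𝔯.ResidueField] P.asIdeal.ResidueField) ⧸ M
    letI : Field L := Ideal.Quotient.field M
    let α : A' →+* L := (Ideal.Quotient.mk M).comp
      ((Algebra.TensorProduct.includeLeftRingHom).comp (algebraMap A' q'.asIdeal.ResidueField))
    let β : MvPolynomial σ B →+* L := (Ideal.Quotient.mk M).comp
      ((Algebra.TensorProduct.includeRight : P.asIdeal.ResidueField →ₐ[𝔯.ResidueField] _).toRingHom.comp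
        (algebraMap (MvPolynomial σ B) P.asIdeal.ResidueField))
    have hαβ : ∀ x, α (ev x) = β (MvPolynomial.map (algebraMap A B) x) := fun x => by
      have h1 : algebraMap A' q'.asIdeal.ResidueField (ev x) = e₁ (algebraMap _ 𝔯.ResidueField x) := (e₁.commutes x).symm
      have h2 : algebraMap (MvPolynomial σ B) P.asIdeal.ResidueField (MvPolynomial.map (algebraMap A B) x) =
          e₂ (algebraMap _ 𝔯.ResidueField x) := (e₂.commutes x).symm
      show Ideal.Quotient.mk M ((algebraMap A' q'.asIdeal.ResidueField (ev x)) ⊗ₜ 1) =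
        Ideal.Quotient.mk M (1 ⊗ₜ algebraMap (MvPolynomial σ B) P.asIdeal.ResidueField (MvPolynomial.map (algebraMap A B) x))
      rw [h1, h2]
      exact congrArg _ ((Algebra.TensorProduct.algebraMap_apply _).symm.trans (Algebra.TensorProduct.algebraMap_apply' _))
    have hne : β (∑ i, MvPolynomial.X i * MvPolynomial.C (b i)) ≠ 0 := fun h0 => by
      refine hP ?_
      show _ ∈ P.asIdeal
      rw [← Ideal.algebraMap_residueField_eq_zero]
      exact ((Ideal.Quotient.mk M).comp (Algebra.TensorProduct.includeRight :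
        P.asIdeal.ResidueField →ₐ[𝔯.ResidueField] _).toRingHom).injective (h0.trans (map_zero _).symm)
    obtain ⟨R, hR, hR'⟩ := exists_point b a α β (fun x => hαβ x) hne
    refine ⟨R, hR, PrimeSpectrum.ext ?_⟩
    rw [hR']
    ext x
    rw [RingHom.mem_ker, ← Ideal.algebraMap_residueField_eq_zero (I := q'.asIdeal)]
    exact map_eq_zero_iff _ ((Ideal.Quotient.mk M).comp (Algebra.TensorProduct.includeLeftRingHom :
      q'.asIdeal.ResidueField →+* _)).injective

theorem isOpenMap_comap_tensor {A' : Type u} [CommRing A'] [Algebra A A']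
    (h : ∀ c : A' ⊗[A] B, ∃ (σ : Type w) (_ : Fintype σ) (b : σ → B) (a : σ → A'),
      IsOpen (PrimeSpectrum.comap (MvPolynomial.map (σ := σ) (algebraMap A B)) ''
        (PrimeSpectrum.basicOpen (∑ i, MvPolynomial.X i * MvPolynomial.C (b i)) : Set (PrimeSpectrum (MvPolynomial σ B)))) ∧
        c = ∑ i, a i ⊗ₜ[A] b i) :
    IsOpenMap (PrimeSpectrum.comap (algebraMap A' (A' ⊗[A] B))) := by
  refine PrimeSpectrum.isTopologicalBasis_basic_opens.isOpenMap_iff.2 ?_
  rintro _ ⟨c, rfl⟩
  obtain ⟨σ, _, b, a, ho, rfl⟩ := h c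
  exact image_isOpen_of_linearForm b ho a

theorem base_change_affine
    (h : ∀ (A' : Type u) [CommRing A'] [Algebra A A'], IsOpenMap (PrimeSpectrum.comap (algebraMap A' (A' ⊗[A] B))))
    {T : Scheme.{u}} (t : T ⟶ Spec (CommRingCat.of A)) {C : CommRingCat.{u}} (j : Spec C ⟶ T) :
    IsOpenMap (pullback.snd (pullback.fst t (Spec.map (CommRingCat.ofHom (algebraMap A B)))) j) := by
  obtain ⟨φ, hφ⟩ := Spec.map_surjective (j ≫ t)
  letI := φ.hom.toAlgebra
  have hφ' : Spec.map (CommRingCat.ofHom (algebraMap A C)) = j ≫ t := hφ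
  let e := pullbackSymmetry (pullback.fst t (Spec.map (CommRingCat.ofHom (algebraMap A B)))) j ≪≫
    pullbackRightPullbackFstIso t (Spec.map (CommRingCat.ofHom (algebraMap A B))) j ≪≫
      pullback.congrHom hφ'.symm rfl ≪≫ pullbackSpecIso A C B
  have he : pullback.snd (pullback.fst t (Spec.map (CommRingCat.ofHom (algebraMap A B)))) j =
      e.hom ≫ Spec.map (CommRingCat.ofHom (algebraMap C (C ⊗[A] B))) := by
    rw [← pullbackSpecIso_inv_fst' A C B]
    simp [e, pullback.map]
    erw [pullback.lift_fst]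
    simp
  rw [he]
  exact (h C).comp e.hom.isOpenEmbedding.isOpenMap

theorem universallyOpen_of_isOpenMap_tensor
    (h : ∀ (A' : Type u) [CommRing A'] [Algebra A A'], IsOpenMap (PrimeSpectrum.comap (algebraMap A' (A' ⊗[A] B)))) :
    UniversallyOpen (Spec.map (CommRingCat.ofHom (algebraMap A B))) := by
  refine ⟨MorphismProperty.universally_mk' _ _ fun {T} t _ => ?_⟩
  rw [IsZariskiLocalAtTarget.iff_of_openCover (P := topologically IsOpenMap) T.affineCover]
  exact fun i => base_change_affine h t (T.affineCover.f i)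

theorem isOpenMap_map_of_universallyOpen (σ : Type u)
    (h : UniversallyOpen (Spec.map (CommRingCat.ofHom (algebraMap A B)))) :
    IsOpenMap (AffineSpace.map σ (Spec.map (CommRingCat.ofHom (algebraMap A B)))) :=
  h.universally_isOpenMap _ _ _ (AffineSpace.isPullback_map _)

theorem isOpenMap_comap_tensor_of_universallyOpen (A' : Type u) [CommRing A'] [Algebra A A']
    (h : UniversallyOpen (Spec.map (CommRingCat.ofHom (algebraMap A B)))) :
    IsOpenMap (PrimeSpectrum.comap (algebraMap A' (A' ⊗[A] B))) :=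
  h.universally_isOpenMap _ _ _ (isPullback_SpecMap_of_isPushout _ _ _ _ (CommRingCat.isPushout_tensorProduct A A' B))

end Groth.Agent.UnivOpenCrit
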